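import Cfsg.Agent.Helper61.Sr.Basic

/-!
# S3572 pieces (U1), (U2) of helper61's market #11963 (Wielandt, dihedral B-groups)

A function (or predicate) on `D_n` is constant on the classes of the fusion relation `fusRel S p`
iff it is constant on the `S.rel` classes and its values on the reflections are periodic under the
`p`-torsion.
-/

set_option autoImplicit false
set_option linter.unusedSectionVars false

namespace Cfsg.Agent.Helper70.Sr

open Finset DihedralGroup Cfsg.Agent.Helper61.Dih Cfsg.Agent.Helper61.Sr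

variable {n : ℕ} [NeZero n] (S : SRing (DihedralGroup n))

/-- the general form: any function on `D_n` -/
theorem fus_fun_iff {α : Sort*} (p : ℕ) (F : DihedralGroup n → α) :
    (∀ x y, fusRel S p x y → F x = F y) ↔
      ((∀ x y, S.rel x y → F x = F y) ∧
        ∀ j u : ZMod n, p • u = 0 → F (sr j) = F (sr (j + u))) := by
  constructor
  · intro h
    refine ⟨fun x y hxy => h x y (Relation.EqvGen.rel _ _ (Or.inl hxy)), fun j u hu => ?_⟩
    exact h _ _ (Relation.EqvGen.rel _ _ (Or.inr ⟨j, u, hu, rfl, rfl⟩))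
  · rintro ⟨h1, h2⟩ x y hxy
    induction hxy with
    | rel a b hab =>
      rcases hab with hab | ⟨j, u, hu, rfl, rfl⟩
      · exact h1 a b hab
      · exact h2 j u hu
    | refl a => rfl
    | symm a b _ ih => exact ih.symm
    | trans a b c _ _ ih1 ih2 => exact ih1.trans ih2

/-- (U1) -/
theorem fus_inv_iff (p : ℕ) (f : MonoidAlgebra ℤ (DihedralGroup n)) :
    (∀ x y, fusRel S p x y → f.coeff x = f.coeff y) ↔ (S.Inv f ∧ RefPer p f) :=
  fus_fun_iff S p (fun x => f.coeff x)

/-- (U2) -/
theorem fus_pred_iff (p : ℕ) (φ : DihedralGroup n → Prop) :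
    (∀ x y, fusRel S p x y → (φ x ↔ φ y)) ↔
      ((∀ x y, S.rel x y → (φ x ↔ φ y)) ∧
        ∀ j u : ZMod n, p • u = 0 → (φ (sr j) ↔ φ (sr (j + u)))) := by
  have h := fus_fun_iff S p φ
  simp only [eq_iff_iff] at h
  exact h

end Cfsg.Agent.Helper70.Sr
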