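import Cfsg.Agent.Helper61.Sr.Basic

/-!
# S3572 piece (U3) of helper61's market #11963 (Wielandt, dihedral B-groups)

`RefPer p` (periodicity of the reflection coefficients under the `p`-torsion) is closed under
multiplication in `ℤ[D_n]`.  Proof: `(f*g)(y) = ∑_h f(h) g(h⁻¹ y)`; reindex the sum by the bijection
of `D_n` fixing the rotations and shifting the reflections by `u`.
-/

set_option autoImplicit false
set_option linter.unusedSectionVars false

namespace Cfsg.Agent.Helper70.Sr

open Finset DihedralGroup Cfsg.Agent.Helper61.Dih Cfsg.Agent.Helper61.Sr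

/-- the convolution formula over a finite group, as a sum over the whole group -/
theorem coeff_mul_fintype {H : Type*} [Group H] [Fintype H] (f g : MonoidAlgebra ℤ H) (y : H) :
    (f * g).coeff y = ∑ h : H, f.coeff h * g.coeff (h⁻¹ * y) := by
  rw [MonoidAlgebra.coeff_mul_apply_left, Finsupp.sum_fintype]
  intro i
  simp

variable {n : ℕ} [NeZero n]

/-- fix the rotations, shift the reflections by `u` -/
def shiftRef (u : ZMod n) : DihedralGroup n → DihedralGroup n
  | r i => r i
  | sr j => sr (j + u)

theorem shiftRef_bijective (u : ZMod n) : Function.Bijective (shiftRef u) := by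
  refine Function.bijective_iff_has_inverse.mpr ⟨shiftRef (-u), ?_, ?_⟩
  · rintro (i | j) <;> simp [shiftRef]
  · rintro (i | j) <;> simp [shiftRef]

/-- (U3) -/
theorem refPer_mul (p : ℕ) (f g : MonoidAlgebra ℤ (DihedralGroup n)) (hf : RefPer p f)
    (hg : RefPer p g) : RefPer p (f * g) := by
  intro x u hu
  rw [coeff_mul_fintype, coeff_mul_fintype]
  refine Fintype.sum_bijective (shiftRef u) (shiftRef_bijective u) _ _ ?_
  rintro (i | j)
  · simp only [shiftRef, inv_r, r_mul_sr]
    rw [hg _ u hu]
    congr 3
    ring
  · simp only [shiftRef, inv_sr, sr_mul_sr]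
    rw [hf j u hu]
    congr 3
    ring

end Cfsg.Agent.Helper70.Sr
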