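import Cfsg.Agent.Helper61.Sr.Basic

/-!
# S3572 piece (U4) of helper61's market #11963 (Wielandt, dihedral B-groups)

The fusion relation `fusRel S p` is preserved by inversion: the generators `S.rel` are
(`S.inv_rel`), and the generators `(sr j, sr (j+u))` are fixed by inversion (`inv_sr`).
-/

set_option autoImplicit false
set_option linter.unusedSectionVars false

namespace Cfsg.Agent.Helper70.Sr

open Finset DihedralGroup Cfsg.Agent.Helper61.Dih Cfsg.Agent.Helper61.Sr

variable {n : ℕ} [NeZero n] (S : SRing (DihedralGroup n))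

/-- (U4) -/
theorem fus_inv_rel (p : ℕ) {x y : DihedralGroup n} (h : fusRel S p x y) : fusRel S p x⁻¹ y⁻¹ := by
  induction h with
  | rel a b hab =>
    rcases hab with hab | ⟨j, u, hu, rfl, rfl⟩
    · exact Relation.EqvGen.rel _ _ (Or.inl (S.inv_rel hab))
    · rw [inv_sr, inv_sr]
      exact Relation.EqvGen.rel _ _ (Or.inr ⟨j, u, hu, rfl, rfl⟩)
  | refl a => exact Relation.EqvGen.refl _
  | symm a b _ ih => exact Relation.EqvGen.symm _ _ ih
  | trans a b c _ _ ih1 ih2 => exact Relation.EqvGen.trans _ _ _ ih1 ih2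

end Cfsg.Agent.Helper70.Sr
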