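import Cfsg.Agent.Helper61.Sr.Basic

/-!
# S3572 pieces (G4), (T5a) of helper61's market #11950 (Wielandt, dihedral B-groups)

(G4) an `S`-subgroup of a primitive S-ring is trivial or everything.
(T5a) if `P ≠ ⊥` and every `S`-set is left `P`-periodic outside `P`, then every nonempty `S`-set
without `1` meets `P`: otherwise its left stabilizer is a nontrivial `S`-subgroup, hence everything.
-/

set_option autoImplicit false
set_option linter.unusedSectionVars false
set_option linter.unusedVariables false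

namespace Cfsg.Agent.Helper70.Sr

open Finset DihedralGroup Cfsg.Agent.Helper61.Dih Cfsg.Agent.Helper61.Sr

variable {H : Type*} [Group H] [Fintype H] [DecidableEq H] (S : SRing H)

/-- (G4) an `S`-subgroup of a primitive S-ring is trivial -/
theorem prim_subgroup (hS : S.IsPrim) (K : Subgroup H)
    (hK : ∀ x y, S.rel x y → (x ∈ K ↔ y ∈ K)) : K = ⊥ ∨ K = ⊤ := by
  classical
  by_cases hbot : K = ⊥
  · exact Or.inl hbot
  right
  obtain ⟨x, hxK, hx1⟩ : ∃ x : H, x ∈ K ∧ x ≠ 1 := by
    by_contra hno
    apply hbot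
    rw [eq_bot_iff]
    intro x hx
    by_contra hx1
    exact hno ⟨x, hx, fun h => hx1 (by rw [h]; exact Subgroup.mem_bot.mpr rfl)⟩
  have hTK : S.IsSet (univ.filter fun y => y ∈ K) := by
    intro a b hab
    simp only [mem_filter, mem_univ, true_and]
    exact hK a b hab
  have hT : S.IsSet ((univ.filter fun y => y ∈ K) \ {1}) := isSet_sdiff S hTK (isSet_one S)
  have hne : ((univ.filter fun y => y ∈ K) \ {1}).Nonempty :=
    ⟨x, by simp [hxK, hx1]⟩
  have h1 : (1 : H) ∉ ((univ.filter fun y => y ∈ K) \ {1}) := by simp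
  have hcl := hS _ hT hne h1
  rw [eq_top_iff, ← hcl, Subgroup.closure_le]
  intro y hy
  have hy' : y ∈ (univ.filter fun y => y ∈ K) \ {1} := hy
  simp only [mem_sdiff, mem_filter, mem_univ, true_and] at hy'
  exact hy'.1

/-- the left stabilizer of a finset, as a subgroup -/
def leftStab (T : Finset H) : Subgroup H where
  carrier := {h | ∀ t ∈ T, h * t ∈ T}
  one_mem' := by
    intro t ht
    rwa [one_mul]
  mul_mem' := by
    intro a b ha hb t ht
    rw [mul_assoc]
    exact ha _ (hb t ht)
  inv_mem' := by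
    intro a ha
    have hpow : ∀ k : ℕ, ∀ t ∈ T, a ^ k * t ∈ T := by
      intro k
      induction k with
      | zero => intro t ht; rwa [pow_zero, one_mul]
      | succ k ih =>
        intro t ht
        rw [pow_succ, mul_assoc]
        exact ih _ (ha t ht)
    have hinv : a⁻¹ = a ^ (orderOf a - 1) := by
      have hpos : 0 < orderOf a := orderOf_pos a
      rw [inv_eq_iff_mul_eq_one, ← pow_succ']
      have : orderOf a - 1 + 1 = orderOf a := by omega
      rw [this, pow_orderOf_eq_one]
    intro t ht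
    rw [hinv]
    exact hpow _ t ht

theorem mem_leftStab {T : Finset H} {h : H} : h ∈ leftStab T ↔ ∀ t ∈ T, h * t ∈ T := Iff.rfl

/-- (T5a) -/
theorem T5a (hS : S.IsPrim) (P : Subgroup H) (hP : P ≠ ⊥)
    (hper : ∀ T : Finset H, S.IsSet T → ∀ x ∈ T, x ∉ P → ∀ k ∈ P, k * x ∈ T)
    (T : Finset H) (hT : S.IsSet T) (hne : T.Nonempty) (h1 : (1 : H) ∉ T) : ∃ t ∈ T, t ∈ P := by
  classical
  by_contra hcon
  have hnot : ∀ t ∈ T, t ∉ P := fun t ht htP => hcon ⟨t, ht, htP⟩
  -- the inverse set is an `S`-set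
  have hT' : S.IsSet (T.image fun t => t⁻¹) := by
    intro a b hab
    have h := hT a⁻¹ b⁻¹ (S.inv_rel hab)
    have hmem : ∀ c : H, c ∈ T.image (fun t => t⁻¹) ↔ c⁻¹ ∈ T := by
      intro c
      rw [mem_image]
      constructor
      · rintro ⟨t, ht, rfl⟩; rwa [inv_inv]
      · intro hc; exact ⟨c⁻¹, hc, inv_inv c⟩
    rw [hmem, hmem]
    exact h
  have hF : S.Inv (ind T * ind (T.image fun t => t⁻¹)) :=
    inv_mul S (inv_ind S hT) (inv_ind S hT')
  -- the coefficient of `ind T * ind T⁻¹` at `x` counts `{c ∈ T | x⁻¹ * c ∈ T}`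
  have hcoef : ∀ x : H, (ind T * ind (T.image fun t => t⁻¹)).coeff x =
      ((T.filter fun c => x⁻¹ * c ∈ T).card : ℤ) := by
    intro x
    rw [coeff_ind_mul_ind]
    congr 2
    apply Finset.filter_congr
    intro c _
    rw [mem_image]
    constructor
    · rintro ⟨t, ht, hteq⟩
      have : x⁻¹ * c = t := by
        rw [← inv_inj, hteq, mul_inv_rev, inv_inv]
      rwa [this]
    · intro hc
      exact ⟨x⁻¹ * c, hc, by rw [mul_inv_rev, inv_inv]⟩
  have hL : ∀ x : H, x ∈ leftStab T ↔
      (ind T * ind (T.image fun t => t⁻¹)).coeff x = (T.card : ℤ) := by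
    intro x
    rw [hcoef, ← inv_mem_iff, mem_leftStab]
    constructor
    · intro h
      rw [Finset.filter_true_of_mem h]
    · intro h
      have h' : (T.filter fun c => x⁻¹ * c ∈ T).card = T.card := by exact_mod_cast h
      have heq := Finset.eq_of_subset_of_card_le (Finset.filter_subset _ T) h'.ge
      intro t ht
      have : t ∈ T.filter fun c => x⁻¹ * c ∈ T := by rw [heq]; exact ht
      exact (mem_filter.mp this).2
  have hLS : ∀ x y, S.rel x y → (x ∈ leftStab T ↔ y ∈ leftStab T) := by
    intro x y hxy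
    rw [hL, hL, hF x y hxy]
  have hPL : P ≤ leftStab T := by
    intro k hk t ht
    exact hper T hT t ht (hnot t ht) k hk
  have hLtop : leftStab T = ⊤ := by
    rcases prim_subgroup S hS (leftStab T) hLS with h | h
    · exfalso
      apply hP
      rw [eq_bot_iff]
      exact h ▸ hPL
    · exact h
  obtain ⟨t, ht⟩ := hne
  have : t⁻¹ ∈ leftStab T := by rw [hLtop]; exact Subgroup.mem_top _
  have h1' := this t ht
  rw [inv_mul_cancel] at h1'
  exact h1 h1'

end Cfsg.Agent.Helper70.Sr
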